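import Mathlib

/-!
# S5719 (involution fixity), large classical groups: the counting lemma ABS (helper847)

`abs_index` : `X ≤ G` contains no element of `Z` (a conjugation invariant set of elements with square `1`), `Q` a group of odd
order, normalised by the image of `lam : L →* G`. If every subgroup `Y` of `L` with `lam Y ∩ Z = ∅` has index at
least `c`, then `|Q| c ≤ |Q ∩ X| |G : X|`.
-/

set_option autoImplicit false

namespace Cfsg.Agent.H847.IF

open Subgroup MulAction

/-- an element of square one which leaves a finite set of odd cardinality invariant fixes a point -/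
theorem exists_fixed {G Ω : Type*} [Group G] [MulAction G Ω] (S : Set Ω) (hS : S.Finite) (hodd : Odd S.ncard) (z : G)
    (hz : z * z = 1) (hzS : ∀ x ∈ S, z • x ∈ S) : ∃ x ∈ S, z • x = x := by
  classical
  have := hS.fintype
  have : Fact (Nat.Prime 2) := ⟨Nat.prime_two⟩
  let σ : Equiv.Perm S :=
    { toFun := fun x => ⟨z • x.1, hzS x.1 x.2⟩
      invFun := fun x => ⟨z • x.1, hzS x.1 x.2⟩
      left_inv := fun x => Subtype.ext (by show z • z • x.1 = x.1; rw [← mul_smul, hz, one_smul])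
      right_inv := fun x => Subtype.ext (by show z • z • x.1 = x.1; rw [← mul_smul, hz, one_smul]) }
  have hσ : σ ^ 2 ^ 1 = 1 := by
    rw [pow_one, pow_two]
    ext x
    show z • z • x.1 = x.1
    rw [← mul_smul, hz, one_smul]
  have hc : ¬ 2 ∣ Fintype.card S := by
    rw [← Nat.card_eq_fintype_card]
    intro h2
    have h3 : Nat.card S = S.ncard := rfl
    rw [h3] at h2
    exact (Nat.not_even_iff_odd.2 hodd) (even_iff_two_dvd.2 h2)
  obtain ⟨x, hx⟩ := Equiv.Perm.exists_fixed_point_of_prime hc hσ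
  exact ⟨x.1, x.2, congrArg Subtype.val hx⟩

/-- **(ABS)** -/
theorem abs_index {G L : Type*} [Group G] [Finite G] [Group L] [Finite L] (lam : L →* G) (Q X : Subgroup G)
    (hQ : Odd (Nat.card Q)) (hnorm : ∀ l : L, ∀ u ∈ Q, lam l * u * (lam l)⁻¹ ∈ Q) (Z : Set G)
    (hZ2 : ∀ z ∈ Z, z * z = 1) (hZc : ∀ g : G, ∀ z ∈ Z, g * z * g⁻¹ ∈ Z) (hX : ∀ z ∈ Z, z ∉ X) (c : ℕ)
    (hc : ∀ Y : Subgroup L, (∀ y ∈ Y, lam y ∉ Z) → c ≤ Y.index) :
    Nat.card Q * c ≤ Nat.card (X ⊓ Q : Subgroup G) * X.index := by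
  classical
  let x₀ : G ⧸ X := ((1 : G) : G ⧸ X)
  let S : Set (G ⧸ X) := orbit Q x₀
  have hSf : S.Finite := Set.toFinite _
  have hS : ∀ x, x ∈ S ↔ ∃ u ∈ Q, u • x₀ = x := by
    intro x
    constructor
    · rintro ⟨u, rfl⟩
      exact ⟨u.1, u.2, rfl⟩
    · rintro ⟨u, hu, rfl⟩
      exact ⟨⟨u, hu⟩, rfl⟩
  have hx₀ : x₀ ∈ S := (hS x₀).2 ⟨1, Q.one_mem, one_smul _ _⟩
  -- the size of the orbit
  have hcard : S.ncard * Nat.card (X ⊓ Q : Subgroup G) = Nat.card Q := by
    have h1 : Nat.card (orbit Q x₀) * Nat.card (stabilizer Q x₀) = Nat.card Q := by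
      rw [← Nat.card_prod]
      exact Nat.card_congr (orbitProdStabilizerEquivGroup Q x₀)
    have h2 : Nat.card (stabilizer Q x₀) = Nat.card (X ⊓ Q : Subgroup G) := by
      refine Nat.card_congr
        { toFun := fun u => ⟨u.1.1, ?_, u.1.2⟩
          invFun := fun u => ⟨⟨u.1, u.2.2⟩, ?_⟩
          left_inv := fun _ => rfl
          right_inv := fun _ => rfl }
      · have h3 : u.1.1 • x₀ = x₀ := u.2
        have h4 : ((u.1.1 * 1 : G) : G ⧸ X) = ((1 : G) : G ⧸ X) := h3
        rw [mul_one, QuotientGroup.eq, mul_one] at h4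
        exact (X.inv_mem_iff).1 h4
      · show u.1 • x₀ = x₀
        show ((u.1 * 1 : G) : G ⧸ X) = ((1 : G) : G ⧸ X)
        rw [mul_one, QuotientGroup.eq, mul_one]
        exact X.inv_mem u.2.1
    rw [← h2]
    exact h1
  have hodd : Odd S.ncard := by
    rw [← hcard] at hQ
    exact (Nat.odd_mul.1 hQ).1
  -- translates of the orbit
  have htr : ∀ l : L, ∀ x ∈ S, lam l • x ∈ S ↔ lam l • x₀ ∈ S := by
    intro l x hx
    obtain ⟨u, hu, rfl⟩ := (hS x).1 hx
    have h1 : lam l • u • x₀ = (lam l * u * (lam l)⁻¹) • lam l • x₀ := by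
      rw [← mul_smul, ← mul_smul, inv_mul_cancel_right]
    rw [h1]
    constructor
    · intro h2
      obtain ⟨v, hv, h3⟩ := (hS _).1 h2
      refine (hS _).2 ⟨(lam l * u * (lam l)⁻¹)⁻¹ * v, Q.mul_mem (Q.inv_mem (hnorm l u hu)) hv, ?_⟩
      rw [mul_smul, h3, ← mul_smul, inv_mul_cancel, one_smul]
    · intro h2
      obtain ⟨v, hv, h3⟩ := (hS _).1 h2
      refine (hS _).2 ⟨(lam l * u * (lam l)⁻¹) * v, Q.mul_mem (hnorm l u hu) hv, ?_⟩
      rw [mul_smul, h3]
  let Y : Subgroup L :=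
    { carrier := {l | lam l • x₀ ∈ S}
      one_mem' := by
        show lam 1 • x₀ ∈ S
        rw [map_one, one_smul]
        exact hx₀
      mul_mem' := by
        intro a b ha hb
        show lam (a * b) • x₀ ∈ S
        rw [map_mul, mul_smul]
        exact (htr a _ hb).2 ha
      inv_mem' := by
        intro a ha
        show lam a⁻¹ • x₀ ∈ S
        have h1 : lam a⁻¹ • lam a • x₀ ∈ S := by
          rw [← mul_smul, ← map_mul, inv_mul_cancel, map_one, one_smul]
          exact hx₀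
        exact (htr a⁻¹ _ ha).1 h1 }
  have hY : c ≤ Y.index := by
    refine hc Y ?_
    intro y hy hz
    obtain ⟨x, hx, hzx⟩ := exists_fixed S hSf hodd (lam y) (hZ2 _ hz) (fun x hx => (htr y x hx).2 hy)
    obtain ⟨u, hu, rfl⟩ := (hS x).1 hx
    have h1 : ((lam y * (u * 1) : G) : G ⧸ X) = ((u * 1 : G) : G ⧸ X) := hzx
    rw [mul_one, QuotientGroup.eq] at h1
    have h2 : u⁻¹ * (lam y)⁻¹ * u ∈ X := by
      rwa [mul_inv_rev] at h1
    have h3 := X.inv_mem h2
    have h4 : (u⁻¹ * (lam y)⁻¹ * u)⁻¹ = u⁻¹ * lam y * u⁻¹⁻¹ := by group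
    rw [h4] at h3
    exact hX _ (hZc u⁻¹ _ hz) h3
  -- the translates are disjoint
  have hinj : Function.Injective (fun p : (L ⧸ Y) × S => lam p.1.out • (p.2 : G ⧸ X)) := by
    rintro ⟨a, ⟨x, hx⟩⟩ ⟨b, ⟨x', hx'⟩⟩ hab
    have h1 : lam a.out • x = lam b.out • x' := hab
    have h2 : lam (b.out⁻¹ * a.out) • x = x' := by
      rw [map_mul, mul_smul, h1, ← mul_smul, ← map_mul, inv_mul_cancel, map_one, one_smul]
    have h3 : b.out⁻¹ * a.out ∈ Y := by
      show lam (b.out⁻¹ * a.out) • x₀ ∈ S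
      rw [← htr _ x hx, h2]
      exact hx'
    have h4 : a = b := by
      rw [← QuotientGroup.out_eq' a, ← QuotientGroup.out_eq' b]
      exact (QuotientGroup.eq.2 h3).symm
    subst h4
    have h5 : x = x' := by rw [← h2, inv_mul_cancel, map_one, one_smul]
    subst h5
    rfl
  have h1 : Y.index * S.ncard ≤ X.index := by
    have h2 := Nat.card_le_card_of_injective _ hinj
    rw [Nat.card_prod] at h2
    exact h2
  calc Nat.card Q * c = Nat.card (X ⊓ Q : Subgroup G) * (c * S.ncard) := by rw [← hcard]; ring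
    _ ≤ Nat.card (X ⊓ Q : Subgroup G) * (Y.index * S.ncard) :=
      Nat.mul_le_mul_left _ (Nat.mul_le_mul_right _ hY)
    _ ≤ _ := Nat.mul_le_mul_left _ h1

end Cfsg.Agent.H847.IF
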